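import Groth.Prelude.Def_W4c1chowmix47Eta
import Mathlib.RingTheory.Valuation.LocalSubring
import Mathlib.RingTheory.Valuation.ValuationSubring
import Mathlib.Algebra.CharP.Reduced
import Mathlib.Algebra.CharP.Algebra
import Mathlib.RingTheory.IntegralClosure.IntegrallyClosed
import Mathlib.RingTheory.Ideal.MinimalPrime.Basic

/-!
# Basic theory of the pointwise construction `η.M A`

`val η g : η.N A →+* η.obj K` is the value of a family along a ring map `g : A →+* K` to a field.
-/

universe u

open EtaPt

namespace EtaLib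

variable (η : FieldEndo.{u})

section Fields

variable {η}

lemma eq_of_pow_eq {L : Type u} [Field L] (q : ℕ) [ExpChar L q] (n : ℕ) {x y : L}
    (h : x ^ q ^ n = y ^ q ^ n) : x = y :=
  iterateFrobenius_inj L q n (by simpa [iterateFrobenius_def] using h)

/-- Two ring maps out of `F K` agreeing on `K` are equal. -/
lemma hom_ext {K L : Type u} [Field K] [Field L] {σ τ : η.obj K →+* L}
    (h : σ.comp (η.eta K) = τ.comp (η.eta K)) : σ = τ := by
  ext y
  obtain ⟨n, c, hc⟩ := η.exists_pow_mem_range_eta K y
  have : ExpChar L (ringExpChar K) :=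
    expChar_of_injective_ringHom (σ.comp (η.eta K)).injective (ringExpChar K)
  refine eq_of_pow_eq (ringExpChar K) n ?_
  rw [← map_pow, ← map_pow, ← hc]
  exact DFunLike.congr_fun h c

lemma nat_apply {K L : Type u} [Field K] [Field L] (f : K →+* L) (x : K) :
    η.map f (η.eta K x) = η.eta L (f x) :=
  DFunLike.congr_fun (η.eta_natural f) x

lemma eta_obj (K : Type u) [Field K] : η.eta (η.obj K) = η.map (η.eta K) :=
  hom_ext (η.eta_natural (η.eta K)).symm

lemma bij_eta_obj (K : Type u) [Field K] : Function.Bijective (η.eta (η.obj K)) := by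
  rw [eta_obj]; exact η.bijective_map_eta K

lemma map_comp_apply {K L E : Type u} [Field K] [Field L] [Field E] (f : K →+* L) (g : L →+* E)
    (x : η.obj K) : η.map (g.comp f) x = η.map g (η.map f x) := by
  rw [η.map_comp]; rfl

lemma bij_eta_of_equiv {K L : Type u} [Field K] [Field L] (e : K ≃+* L)
    (h : Function.Bijective (η.eta K)) : Function.Bijective (η.eta L) := by
  refine ⟨(η.eta L).injective, fun z => ?_⟩
  obtain ⟨c, hc⟩ := h.2 (η.map e.symm.toRingHom z)
  refine ⟨e c, ?_⟩
  rw [show e c = e.toRingHom c from rfl, ← nat_apply, hc, ← map_comp_apply, RingEquiv.toRingHom_comp_symm_toRingHom,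
    η.map_id]
  rfl

lemma inV_iff {R : Type u} [CommRing R] [IsDomain R] (L : Type u) [Field L] [Algebra R L]
    [IsFractionRing R L] : η.InV R ↔ Function.Bijective (η.eta L) :=
  ⟨bij_eta_of_equiv (IsLocalization.algEquiv (nonZeroDivisors R) (FractionRing R) L).toRingEquiv,
    bij_eta_of_equiv (IsLocalization.algEquiv (nonZeroDivisors R) L (FractionRing R)).toRingEquiv⟩

lemma inV_valuationSubring {L : Type u} [Field L] (hL : Function.Bijective (η.eta L))
    (V : ValuationSubring L) : η.InV V :=
  (inV_iff (R := V) L).2 hL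

lemma eta_inj {K : Type u} [Field K] {a b : K} (h : η.eta K a = η.eta K b) : a = b :=
  (η.eta K).injective h

end Fields

section Val

variable {A B : Type u} [CommRing A] [CommRing B]

/-- The prime attached to a map to a field. -/
def pt {K : Type u} [Field K] (g : A →+* K) : PrimeSpectrum A := ⟨RingHom.ker g, RingHom.ker_isPrime g⟩

/-- The induced map `k(ker g) → K`. -/
noncomputable def liftPt {K : Type u} [Field K] (g : A →+* K) : (pt g).asIdeal.ResidueField →+* K :=
  Ideal.ResidueField.lift _ g le_rfl fun _ hs => isUnit_iff_ne_zero.mpr hs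

/-- The value of a family along a ring map to a field. -/
noncomputable def val {K : Type u} [Field K] (g : A →+* K) : η.N A →+* η.obj K :=
  (η.map (liftPt g)).comp (Pi.evalRingHom (fun p : PrimeSpectrum A => η.obj p.asIdeal.ResidueField) (pt g))

lemma val_eq {K : Type u} [Field K] (g : A →+* K) (p : PrimeSpectrum A)
    (ι : p.asIdeal.ResidueField →+* K) (hι : ι.comp (algebraMap A p.asIdeal.ResidueField) = g)
    (x : η.N A) : η.map ι (x p) = val η g x := by
  obtain rfl : p = pt g := by
    refine PrimeSpectrum.ext ?_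
    show p.asIdeal = RingHom.ker g
    rw [← hι, RingHom.ker_comp_of_injective _ ι.injective, Ideal.ker_algebraMap_residueField]
  have : ι = liftPt g := Ideal.ResidueField.ringHom_ext <| by
    rw [hι]; ext a; simp [liftPt]
  subst this
  rfl

lemma val_self (p : PrimeSpectrum A) (x : η.N A) :
    val η (algebraMap A p.asIdeal.ResidueField) x = x p := by
  rw [← val_eq η _ p (RingHom.id _) (RingHom.id_comp _), η.map_id]; rfl

lemma val_comp {K L : Type u} [Field K] [Field L] (g : A →+* K) (h : K →+* L) (x : η.N A) :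
    val η (h.comp g) x = η.map h (val η g x) := by
  rw [← val_eq η (h.comp g) (pt g) (h.comp (liftPt g)) (by ext a; simp [liftPt]), map_comp_apply]
  rfl

lemma val_t {K : Type u} [Field K] (g : A →+* K) (a : A) : val η g (η.t A a) = η.eta K (g a) := by
  show η.map (liftPt g) (η.eta _ (algebraMap A _ a)) = _
  rw [nat_apply]; simp [liftPt]

lemma Nmap_apply (f : A →+* B) (x : η.N A) (q : PrimeSpectrum B) :
    η.Nmap f x q = val η ((algebraMap B q.asIdeal.ResidueField).comp f) x :=
  val_eq η _ (PrimeSpectrum.comap f q)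
    (Ideal.ResidueField.map (PrimeSpectrum.comap f q).asIdeal q.asIdeal f rfl)
    (RingHom.ext fun a => Ideal.ResidueField.map_algebraMap _ _ _ _ a) x

lemma val_Nmap {K : Type u} [Field K] (g : B →+* K) (f : A →+* B) (x : η.N A) :
    val η g (η.Nmap f x) = val η (g.comp f) x := by
  show η.map (liftPt g) (η.Nmap f x (pt g)) = _
  rw [Nmap_apply, ← val_comp, show (liftPt g).comp ((algebraMap B _).comp f) = g.comp f from
    RingHom.ext fun a => by simp [liftPt]]

lemma Nmap_comp {C : Type u} [CommRing C] (f : A →+* B) (g : B →+* C) (x : η.N A) :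
    η.Nmap (g.comp f) x = η.Nmap g (η.Nmap f x) := by
  funext q
  rw [Nmap_apply, Nmap_apply, val_Nmap, RingHom.comp_assoc]

lemma Nmap_id (x : η.N A) : η.Nmap (RingHom.id A) x = x := by
  funext q
  rw [Nmap_apply, RingHom.comp_id, val_self]

lemma Nmap_mem_M (f : A →+* B) {x : η.N A} (hx : x ∈ η.M A) : η.Nmap f x ∈ η.M B :=
  fun R _ _ _ hR g => by rw [← Nmap_comp]; exact hx R hR (g.comp f)

/-- The defining property of `M`, along any map from the valuation ring to a field. -/
lemma exists_val {x : η.N A} (hx : x ∈ η.M A) {R : Type u} [CommRing R] [IsDomain R] [ValuationRing R]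
    (hR : η.InV R) (g : A →+* R) :
    ∃ r : R, ∀ (L : Type u) [Field L] (i : R →+* L), val η (i.comp g) x = η.eta L (i r) := by
  obtain ⟨r, hr⟩ := hx R hR g
  exact ⟨r, fun L _ i => by rw [← val_Nmap, ← hr, val_t]⟩

/-- Criterion for membership in `M`. -/
lemma mem_M_of (x : η.N A) (h : ∀ (R : Type u) [CommRing R] [IsDomain R] [ValuationRing R], η.InV R →
    ∀ g : A →+* R, ∃ r : R, ∀ q : PrimeSpectrum R,
      val η ((algebraMap R q.asIdeal.ResidueField).comp g) x =
        η.eta q.asIdeal.ResidueField (algebraMap R q.asIdeal.ResidueField r)) : x ∈ η.M A :=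
  fun R _ _ _ hR g => by
    obtain ⟨r, hr⟩ := h R hR g
    exact ⟨r, funext fun q => by rw [Nmap_apply, hr q]; rfl⟩

end Val

section Center

/-- A valuation ring of `L` receiving `C` with prescribed centre. -/
lemma exists_valuationSubring_center {C : Type u} [CommRing C] {L : Type u} [Field L] (h : C →+* L)
    (P : Ideal C) [P.IsPrime] (hP : RingHom.ker h ≤ P) :
    ∃ (V : ValuationSubring L) (h' : C →+* V), V.subtype.comp h' = h ∧
      (IsLocalRing.maximalIdeal V).comap h' = P := by
  have hu : ∀ s : P.primeCompl, IsUnit (h s) := fun s =>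
    isUnit_iff_ne_zero.mpr fun h0 => s.2 (hP h0)
  let hl : Localization.AtPrime P →+* L := IsLocalization.lift hu
  obtain ⟨V, hV, hloc⟩ := IsLocalRing.exists_factor_valuationRing hl
  refine ⟨V, (hl.codRestrict V.toSubring hV).comp (algebraMap C _), ?_, ?_⟩
  · ext c
    exact IsLocalization.lift_eq hu c
  · let hlV : Localization.AtPrime P →+* V := hl.codRestrict V.toSubring hV
    have : IsLocalHom hlV := hloc
    show (IsLocalRing.maximalIdeal V).comap (hlV.comp (algebraMap C _)) = P
    rw [← Ideal.comap_comap, IsLocalRing.maximalIdeal_comap hlV]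
    exact IsLocalization.AtPrime.comap_maximalIdeal (Localization.AtPrime P) P

variable {η}
variable {A : Type u} [CommRing A] {L : Type u} [Field L]

/-- `x` takes at `L` a value in every valuation ring receiving `A`, compatibly with specialization. -/
lemma val_center {x : η.N A} (hx : x ∈ η.M A) (hL : Function.Bijective (η.eta L)) (g : A →+* L)
    {y : L} (hy : η.eta L y = val η g x) (V : ValuationSubring L) (g' : A →+* V)
    (hg' : V.subtype.comp g' = g) :
    ∃ hyV : y ∈ V, val η ((IsLocalRing.residue V).comp g') x =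
      η.eta (IsLocalRing.ResidueField V) (IsLocalRing.residue V ⟨y, hyV⟩) := by
  obtain ⟨r, hr⟩ := exists_val η hx (inV_valuationSubring hL V) g'
  have h1 := hr L V.subtype
  rw [hg', ← hy] at h1
  obtain rfl : y = r := eta_inj h1
  exact ⟨r.2, hr _ (IsLocalRing.residue V)⟩

/-- Values are integral over `A`. -/
lemma isIntegralElem_val {x : η.N A} (hx : x ∈ η.M A) (hL : Function.Bijective (η.eta L)) (g : A →+* L)
    {y : L} (hy : η.eta L y = val η g x) : g.IsIntegralElem y := by
  let S : Subring L := g.range
  by_contra hni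
  let R : Subring L := (integralClosure S L).toSubring
  have : IsIntegrallyClosedIn R L := inferInstanceAs (IsIntegrallyClosedIn (integralClosure S L).toSubring L)
  have hyR : y ∉ R := fun h => hni <| by
    obtain ⟨P, hP, hP0⟩ := (h : IsIntegral S y)
    obtain ⟨Q, hQ, -, hQm⟩ := Polynomial.lifts_and_degree_eq_and_monic
      ((Polynomial.lifts_iff_coeff_lifts _).2 fun n => by
        obtain ⟨a, ha⟩ := (P.coeff n).2
        exact ⟨a, Subtype.ext ha⟩ : P ∈ Polynomial.lifts g.rangeRestrict) hP
    refine ⟨Q, hQm, ?_⟩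
    rw [← hP0, ← hQ, Polynomial.eval₂_map]
    rfl
  obtain ⟨V, hRV, hyV⟩ := R.exists_le_valuationSubring_of_isIntegrallyClosedIn hyR
  have hgV : ∀ a, g a ∈ V.toSubring := fun a =>
    hRV ((integralClosure S L).algebraMap_mem ⟨g a, a, rfl⟩)
  obtain ⟨h, -⟩ := val_center hx hL g hy V (g.codRestrict V.toSubring hgV) rfl
  exact hyV h

/-- If the value at `L` is `y` and `x` vanishes at `p`, then `y` is small at any centre `p`. -/
lemma val_center_maximal {x : η.N A} (hx : x ∈ η.M A) (hL : Function.Bijective (η.eta L)) (g : A →+* L)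
    {y : L} (hy : η.eta L y = val η g x) (V : ValuationSubring L) (g' : A →+* V)
    (hg' : V.subtype.comp g' = g) (p : PrimeSpectrum A)
    (hp : (IsLocalRing.maximalIdeal V).comap g' = p.asIdeal) :
    ∃ hyV : y ∈ V, (x p = 0 ↔ (⟨y, hyV⟩ : V) ∈ IsLocalRing.maximalIdeal V) := by
  obtain ⟨hyV, h⟩ := val_center hx hL g hy V g' hg'
  refine ⟨hyV, ?_⟩
  have hker : RingHom.ker ((IsLocalRing.residue V).comp g') = p.asIdeal := by
    rw [← hp, RingHom.ker_eq_comap_bot, ← Ideal.comap_comap, ← RingHom.ker_eq_comap_bot,
      IsLocalRing.ker_residue]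
  have hι : (Ideal.ResidueField.lift p.asIdeal ((IsLocalRing.residue V).comp g') hker.ge
      (fun s hs => isUnit_iff_ne_zero.mpr fun h0 => hs (hker.le h0))).comp
      (algebraMap A p.asIdeal.ResidueField) = (IsLocalRing.residue V).comp g' := by
    ext a; simp
  rw [← val_eq η _ p _ hι] at h
  rw [← IsLocalRing.residue_eq_zero_iff]
  constructor
  · intro h0
    rw [h0, map_zero] at h
    exact eta_inj (h.symm.trans (map_zero (η.eta _)).symm)
  · intro h0
    rw [h0, map_zero, map_eq_zero] at h
    exact h

/-- An element of `M` vanishing at a prime vanishes at every larger prime. -/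
lemma eq_zero_of_le {x : η.N A} (hx : x ∈ η.M A) {q p : PrimeSpectrum A} (hqp : q.asIdeal ≤ p.asIdeal)
    (h : x q = 0) : x p = 0 := by
  let g : A →+* η.obj q.asIdeal.ResidueField :=
    (η.eta q.asIdeal.ResidueField).comp (algebraMap A q.asIdeal.ResidueField)
  have hg : RingHom.ker g ≤ p.asIdeal := by
    rw [RingHom.ker_comp_of_injective _ (η.eta q.asIdeal.ResidueField).injective, Ideal.ker_algebraMap_residueField]
    exact hqp
  obtain ⟨V, g', hg', hc⟩ := exists_valuationSubring_center g p.asIdeal hg
  have hy : η.eta _ (0 : η.obj q.asIdeal.ResidueField) = val η g x := by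
    rw [map_zero, val_comp, val_self, h, map_zero]
  obtain ⟨h0, h1⟩ := val_center_maximal hx (bij_eta_obj _) g hy V g' hg' p hc
  exact h1.2 (show (⟨0, h0⟩ : V) ∈ _ from (IsLocalRing.maximalIdeal V).zero_mem)

/-- An element of `M` is determined by its values at the minimal primes. -/
lemma eq_of_minimalPrimes {x y : η.N A} (hx : x ∈ η.M A) (hy : y ∈ η.M A)
    (h : ∀ q : PrimeSpectrum A, q.asIdeal ∈ minimalPrimes A → x q = y q) : x = y := by
  funext p
  obtain ⟨q, hq, hqp⟩ := Ideal.exists_minimalPrimes_le (J := p.asIdeal) bot_le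
  have h0 := h ⟨q, hq.1.1⟩ hq
  have := eq_zero_of_le (sub_mem hx hy) (q := ⟨q, hq.1.1⟩) (p := p) hqp (by simp [h0])
  exact sub_eq_zero.1 this

/-- The components of an element of `M` are integral over `A`. -/
lemma isIntegralElem_component {x : η.N A} (hx : x ∈ η.M A) (p : PrimeSpectrum A) :
    ((η.eta p.asIdeal.ResidueField).comp (algebraMap A p.asIdeal.ResidueField)).IsIntegralElem (x p) :=
  isIntegralElem_val hx (bij_eta_obj _) _ (by rw [val_comp, val_self, eta_obj])

end Center

end EtaLib
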