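import Groth.Agent.EtaLib.Spec
import Groth.Agent.S0415
import Groth.Prelude.Def_HTop2
import Mathlib.AlgebraicGeometry.Morphisms.UniversallyInjective
import Mathlib.AlgebraicGeometry.ResidueField

/-!
# Universal homeomorphisms with trivial residue extensions versus `η.Nmap` for `η = id`
-/

universe u

open AlgebraicGeometry CategoryTheory EtaPt

namespace EtaLib

variable {A B : Type u} [CommRing A] [CommRing B]

lemma residueFieldMap_comp (f : A →+* B) (x : ↥(Spec (CommRingCat.of B))) :
    ((Spec.map (CommRingCat.ofHom f)).residueFieldMap x).hom.comp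
        (Scheme.Spec.residueFieldIso (CommRingCat.of A) (Spec.map (CommRingCat.ofHom f) x)).inv.hom =
      (Scheme.Spec.residueFieldIso (CommRingCat.of B) x).inv.hom.comp
        (Ideal.ResidueField.map (PrimeSpectrum.comap f x).asIdeal x.asIdeal f rfl) := by
  refine Ideal.ResidueField.ringHom_ext (RingHom.ext fun a => ?_)
  show _ = (Scheme.Spec.residueFieldIso (CommRingCat.of B) x).inv.hom
    (Ideal.ResidueField.map (PrimeSpectrum.comap f x).asIdeal x.asIdeal f rfl (algebraMap A _ a))
  rw [Ideal.ResidueField.map_algebraMap]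
  have e0 := CategoryTheory.ConcreteCategory.congr_hom
    (Scheme.Spec.algebraMap_residueFieldIso_inv (CommRingCat.of A) (Spec.map (CommRingCat.ofHom f) x)) a
  refine (congrArg ((Spec.map (CommRingCat.ofHom f)).residueFieldMap x).hom e0).trans ?_
  show (Spec.map (CommRingCat.ofHom f)).residueFieldMap x _ = _
  refine (Scheme.Γevaluation_naturality_apply _ _ _).trans ?_
  have e1 := CategoryTheory.ConcreteCategory.congr_hom
    (Scheme.ΓSpecIso_inv_naturality (CommRingCat.ofHom f)) a
  refine (congrArg _ e1.symm).trans ?_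
  have e2 := CategoryTheory.ConcreteCategory.congr_hom
    (Scheme.Spec.algebraMap_residueFieldIso_inv (CommRingCat.of B) x) (f a)
  exact e2.symm

lemma residueFieldsIso_iff (f : A →+* B) :
    HTop.ResidueFieldsIso (Spec.map (CommRingCat.ofHom f)) ↔ ∀ Q : PrimeSpectrum B,
      Function.Bijective (Ideal.ResidueField.map (PrimeSpectrum.comap f Q).asIdeal Q.asIdeal f rfl) := by
  refine forall_congr' fun x => ?_
  have hA := (Scheme.Spec.residueFieldIso (CommRingCat.of A)
    (Spec.map (CommRingCat.ofHom f) x)).symm.commRingCatIsoToRingEquiv.bijective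
  have hB := (Scheme.Spec.residueFieldIso (CommRingCat.of B) x).symm.commRingCatIsoToRingEquiv.bijective
  rw [ConcreteCategory.isIso_iff_bijective]
  refine (Function.Bijective.of_comp_iff _ hA).symm.trans ((Iff.of_eq ?_).trans (Function.Bijective.of_comp_iff' hB _))
  exact congrArg Function.Bijective (funext fun z => DFunLike.congr_fun (residueFieldMap_comp f x) z)

lemma bij_Nmap_ident_iff (f : A →+* B) :
    Function.Bijective (FieldEndo.ident.{u}.Nmap f) ↔ Function.Bijective (PrimeSpectrum.comap f) ∧
      HTop.ResidueFieldsIso (Spec.map (CommRingCat.ofHom f)) := by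
  rw [residueFieldsIso_iff]
  constructor
  · exact fun h => ⟨bij_comap_of_bij_Nmap f h, bij_component_of_bij_Nmap f h⟩
  · rintro ⟨h1, h2⟩
    exact bij_Nmap_of f h1 fun Q => ⟨(RingEquiv.ofBijective _ (h2 Q)).symm.toRingHom,
      RingHom.ext fun c => (RingEquiv.ofBijective _ (h2 Q)).symm_apply_apply c⟩

/-- An integral map with `Nmap` bijective is a universal homeomorphism with trivial residue extensions. -/
lemma univHomeo_residueIso (f : A →+* B) (hf : f.IsIntegral)
    (hN : Function.Bijective (FieldEndo.ident.{u}.Nmap f)) :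
    FlatMor.IsUnivHomeo (Spec.map (CommRingCat.ofHom f)) ∧
      HTop.ResidueFieldsIso (Spec.map (CommRingCat.ofHom f)) := by
  obtain ⟨hb, hres⟩ := (bij_Nmap_ident_iff f).1 hN
  refine ⟨?_, hres⟩
  rw [Groth.Agent.S0415.result]
  refine ⟨IsIntegralHom.SpecMap_iff.mpr hf, ?_, ⟨hb.2⟩⟩
  apply ((tfae_universallyInjective (f := Spec.map (CommRingCat.ofHom f))).out 0 2).mpr
  refine ⟨hb.1, fun x => ?_⟩
  have := hres x
  letI := ((Spec.map (CommRingCat.ofHom f)).residueFieldMap x).hom.toAlgebra
  exact (isPurelyInseparable_iff_pow_mem _ (ringExpChar ((Spec (CommRingCat.of A)).residueField (Spec.map (CommRingCat.ofHom f) x)))).2 fun y =>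
    ⟨0, by rw [pow_zero, pow_one]; exact ((ConcreteCategory.isIso_iff_bijective _).1 (hres x)).2 y⟩

lemma integral_bij_of_univHomeo (f : A →+* B) (h : FlatMor.IsUnivHomeo (Spec.map (CommRingCat.ofHom f)))
    (hres : HTop.ResidueFieldsIso (Spec.map (CommRingCat.ofHom f))) :
    f.IsIntegral ∧ Function.Bijective (FieldEndo.ident.{u}.Nmap f) := by
  rw [Groth.Agent.S0415.result] at h
  obtain ⟨h1, h2, h3⟩ := h
  have hbij : Function.Bijective (PrimeSpectrum.comap f) :=
    ⟨(Spec.map (CommRingCat.ofHom f)).injective, h3.surj⟩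
  exact ⟨IsIntegralHom.SpecMap_iff.mp h1, (bij_Nmap_ident_iff f).2 ⟨hbij, hres⟩⟩

end EtaLib
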