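import Groth.Agent.EtaLib.Rel
import Mathlib.RingTheory.Localization.Away.Basic
import Mathlib.RingTheory.Localization.Integral
import Mathlib.RingTheory.Spectrum.Prime.Noetherian

/-!
# Localisation of `η.M` and `η.rel` at one element
-/

universe u

open EtaPt

namespace EtaLib

variable {η : FieldEndo.{u}}
variable {A : Type u} [CommRing A] (f : A)

lemma bij_component_away (q : PrimeSpectrum (Localization.Away f)) :
    Function.Bijective (η.map (Ideal.ResidueField.map
      (PrimeSpectrum.comap (algebraMap A (Localization.Away f)) q).asIdeal q.asIdeal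
      (algebraMap A (Localization.Away f)) rfl)) := by
  have hb := (RingHom.surjectiveOnStalks_of_isLocalization (Submonoid.powers f)
    (Localization.Away f)).residueFieldMap_bijective
    (PrimeSpectrum.comap (algebraMap A (Localization.Away f)) q).asIdeal q.asIdeal rfl
  exact bij_map_of_phi _ ((η.eta _).comp (RingEquiv.ofBijective _ hb).symm.toRingHom)
    (RingHom.ext fun c => congrArg (η.eta _) ((RingEquiv.ofBijective _ hb).symm_apply_apply c))

lemma not_mem_comap_away (q : PrimeSpectrum (Localization.Away f)) :
    f ∉ (PrimeSpectrum.comap (algebraMap A (Localization.Away f)) q).asIdeal := fun h =>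
  q.isPrime.ne_top (q.asIdeal.eq_top_of_isUnit_mem h (IsLocalization.Away.algebraMap_isUnit f))

/-- Extension by zero from `D(f)`. -/
lemma exists_extend_by_zero (y : η.N (Localization.Away f)) :
    ∃ x : η.N A, η.Nmap (algebraMap A (Localization.Away f)) x = y ∧ ∀ p, f ∈ p.asIdeal → x p = 0 := by
  classical
  choose w hw using fun q => (bij_component_away (η := η) f q).2 (y q)
  have hinj : Function.Injective (PrimeSpectrum.comap (algebraMap A (Localization.Away f))) :=
    PrimeSpectrum.localization_comap_injective _ (Submonoid.powers f)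
  have hz : ∀ p : PrimeSpectrum A, ∃ z : η.obj p.asIdeal.ResidueField,
      (∀ q, ∀ h : PrimeSpectrum.comap (algebraMap A (Localization.Away f)) q = p, h ▸ w q = z) ∧
        (f ∈ p.asIdeal → z = 0) := by
    intro p
    by_cases hp : ∃ q, PrimeSpectrum.comap (algebraMap A (Localization.Away f)) q = p
    · obtain ⟨q₀, rfl⟩ := hp
      refine ⟨w q₀, fun q h => ?_, fun h => absurd h (not_mem_comap_away f q₀)⟩
      obtain rfl := hinj h
      rfl
    · exact ⟨0, fun q h => absurd ⟨q, h⟩ hp, fun _ => rfl⟩
  choose z hz1 hz2 using hz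
  refine ⟨z, funext fun q => ?_, hz2⟩
  rw [Nmap_component, ← hz1 _ q rfl, hw]

/-- A family killed on `D(f)` is killed by `f`. -/
lemma t_mul_eq_zero (x : η.N A) (hx : η.Nmap (algebraMap A (Localization.Away f)) x = 0) :
    η.t A f * x = 0 := by
  funext p
  show η.t A f p * x p = 0
  by_cases hf : f ∈ p.asIdeal
  · rw [show η.t A f p = 0 from (congrArg (η.eta _) (Ideal.algebraMap_residueField_eq_zero.2 hf)).trans (map_zero _),
      zero_mul]
  · obtain ⟨q, rfl⟩ : ∃ q, PrimeSpectrum.comap (algebraMap A (Localization.Away f)) q = p := by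
      rw [← Set.mem_range, PrimeSpectrum.localization_away_comap_range (Localization.Away f) f]
      exact hf
    rw [show x _ = 0 from (η.map _).injective ((congrFun hx q).trans (map_zero _).symm), mul_zero]

/-- Elements of `M` of the localisation come from `M`. -/
lemma exists_M_lift (hA : (minimalPrimes A).Finite) {y : η.N (Localization.Away f)}
    (hy : y ∈ η.M (Localization.Away f)) :
    ∃ x ∈ η.M A, ∃ n : ℕ, (∀ p : PrimeSpectrum A, f ∈ p.asIdeal → x p = 0) ∧
      y * η.t (Localization.Away f) (algebraMap A (Localization.Away f) f) ^ n =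
        η.Nmap (algebraMap A (Localization.Away f)) x := by
  let Af := Localization.Away f
  have hAf : (minimalPrimes Af).Finite := by
    refine (hA.preimage (f := Ideal.comap (algebraMap A Af)) fun I _ J _ h => ?_).subset ?_
    · rw [← IsLocalization.map_comap (Submonoid.powers f) Af I, ← IsLocalization.map_comap (Submonoid.powers f) Af J]
      exact congrArg (Ideal.map (algebraMap A Af)) h
    · have := IsLocalization.minimalPrimes_map (Submonoid.powers f) Af (⊥ : Ideal A)
      rw [Ideal.map_bot] at this
      exact this.subset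
  letI : Algebra A (η.M Af) := ((η.q Af).comp (algebraMap A Af)).toAlgebra
  letI : Algebra Af (η.M Af) := (η.q Af).toAlgebra
  have : IsScalarTower A Af (η.M Af) := IsScalarTower.of_algebraMap_eq fun _ => rfl
  have hint : IsIntegral Af (⟨y, hy⟩ : η.M Af) := isIntegral_q hAf ⟨y, hy⟩
  obtain ⟨⟨_, N, rfl⟩, P, hP, hP0⟩ :=
    hint.exists_multiple_integral_of_isLocalization (Submonoid.powers f) _
  rw [Submonoid.smul_def, Algebra.smul_def] at hP0
  obtain ⟨x₀, hx₀, hx₀'⟩ := exists_extend_by_zero f y
  have hpoly : Polynomial.eval₂ ((η.t Af).comp (algebraMap A Af)) (η.t Af (algebraMap A Af (f ^ N)) * y) P = 0 := by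
    have := congrArg (η.M Af).subtype hP0
    rw [Polynomial.hom_eval₂, map_zero] at this
    exact this
  refine ⟨x₀ * η.t A f ^ (N + 1), mem_M_of η _ fun R _ _ _ hR g => ?_, N + 1,
    fun p hp => ?_, ?_⟩
  · by_cases hgf : g f = 0
    · refine ⟨0, fun q => ?_⟩
      simp [map_mul, map_pow, val_t, hgf]
    let K := FractionRing R
    have hu : IsUnit ((algebraMap R K).comp g f) :=
      isUnit_iff_ne_zero.mpr fun h => hgf (IsFractionRing.injective R K (h.trans (map_zero _).symm))
    let gK : Af →+* K := IsLocalization.Away.lift f hu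
    have hgK : gK.comp (algebraMap A Af) = (algebraMap R K).comp g := IsLocalization.Away.lift_comp f hu
    obtain ⟨c, hc⟩ := hR.2 (val η gK y)
    have := isIntegrallyClosed_valuationRing R
    have hci : IsIntegral R (algebraMap R K (g f) ^ N * c) := by
      refine ⟨P.map g, hP.map g, eta_inj (η := η) ?_⟩
      rw [Polynomial.eval₂_map, Polynomial.hom_eval₂, map_zero]
      have := congrArg (val η gK) hpoly
      rw [Polynomial.hom_eval₂, map_zero] at this
      convert this using 2
      · ext a
        show η.eta K (((algebraMap R K).comp g) a) = val η gK (η.t Af (algebraMap A Af a))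
        rw [val_t, ← hgK]
        rfl
      · rw [map_mul, hc, map_mul, val_t, map_pow (algebraMap A Af), map_pow gK,
          show gK (algebraMap A Af f) = algebraMap R K (g f) from DFunLike.congr_fun hgK f]
    obtain ⟨r₀, hr₀⟩ := IsIntegrallyClosed.isIntegral_iff.1 hci
    refine ⟨r₀ * g f, fun q => ?_⟩
    by_cases hq : g f ∈ q.asIdeal
    · rw [map_mul, map_pow, val_t, RingHom.comp_apply, map_mul,
        Ideal.algebraMap_residueField_eq_zero.2 hq, map_zero, zero_pow (Nat.succ_ne_zero _), mul_zero, mul_zero,
        map_zero]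
    · obtain ⟨V, j, hj, hcen⟩ := exists_valuationSubring_center (algebraMap R K) q.asIdeal
        (((RingHom.injective_iff_ker_eq_bot _).1 (IsFractionRing.injective R K)).le.trans bot_le)
      have huV : IsUnit (j (g f)) := by
        by_contra h
        exact hq (hcen ▸ Ideal.mem_comap.2 h)
      let gV : Af →+* V := IsLocalization.Away.lift (g := j.comp g) f huV
      have hgV : gV.comp (algebraMap A Af) = j.comp g := IsLocalization.Away.lift_comp (g := j.comp g) f huV
      have hgVK : V.subtype.comp gV = gK := IsLocalization.ringHom_ext (Submonoid.powers f) <| by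
        rw [RingHom.comp_assoc, hgV, hgK, ← RingHom.comp_assoc, hj]
      obtain ⟨hcV, hcval⟩ := val_center hy hR gK hc V gV hgVK
      let φ : q.asIdeal.ResidueField →+* IsLocalRing.ResidueField V :=
        Ideal.ResidueField.lift q.asIdeal ((IsLocalRing.residue V).comp j)
          (fun s hs => by
            rw [RingHom.mem_ker, RingHom.comp_apply, IsLocalRing.residue_eq_zero_iff]
            exact hcen.ge hs)
          (fun s hs => isUnit_iff_ne_zero.mpr fun h0 => hs (hcen.le ((IsLocalRing.residue_eq_zero_iff _).1 h0)))
      have hφ : φ.comp (algebraMap R q.asIdeal.ResidueField) = (IsLocalRing.residue V).comp j := by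
        ext; simp [φ]
      apply (η.map φ).injective
      rw [← val_comp, ← RingHom.comp_assoc, hφ, nat_apply, ← RingHom.comp_apply φ, hφ]
      have hg2 : ((IsLocalRing.residue V).comp j).comp g =
          ((IsLocalRing.residue V).comp gV).comp (algebraMap A Af) := by
        rw [RingHom.comp_assoc, ← hgV, ← RingHom.comp_assoc]
      rw [map_mul, map_pow, val_t, hg2, ← val_Nmap, hx₀, hcval, ← map_pow, ← map_mul]
      congr 1
      rw [← hg2]
      simp only [RingHom.comp_apply]
      rw [← map_pow, ← map_mul]
      congr 1
      apply Subtype.ext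
      have hj' : ∀ a, (j a : K) = algebraMap R K a := fun a => DFunLike.congr_fun hj a
      push_cast
      rw [hj', hj', map_mul, hr₀]
      ring
  · show x₀ p * (η.t A f ^ (N + 1)) p = 0
    rw [hx₀' p hp, zero_mul]
  · rw [map_mul, map_pow, hx₀, η.Nmap_t_apply]

/-- Elements of `rel` of the localised map come from `rel`. -/
lemma exists_rel_lift {B : Type u} [CommRing B] (hA : (minimalPrimes A).Finite) (φ : A →+* B)
    {y : Localization.Away (φ f)} (hy : y ∈ η.rel (Localization.awayMap φ f)) :
    ∃ x ∈ η.rel φ, ∃ n : ℕ,
      y * algebraMap B (Localization.Away (φ f)) (φ f) ^ n = algebraMap B (Localization.Away (φ f)) x := by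
  have hcomm : (Localization.awayMap φ f).comp (algebraMap A (Localization.Away f)) =
      (algebraMap B (Localization.Away (φ f))).comp φ := IsLocalization.map_comp _
  obtain ⟨x', hx', hxy⟩ := hy
  obtain ⟨x, hx, m, hx0, hxm⟩ := exists_M_lift f hA hx'
  obtain ⟨k, b, hbk⟩ := IsLocalization.Away.surj (φ f) y
  refine ⟨b * φ f ^ (m + 1), ⟨x * η.t A f ^ (k + 1), mul_mem hx (pow_mem (η.t_mem_M A f) _), ?_⟩, k + m + 1, ?_⟩
  · funext Q
    by_cases hQ : φ f ∈ Q.asIdeal
    · rw [Nmap_component, Pi.mul_apply, hx0 _ hQ, zero_mul, map_zero]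
      symm
      show η.eta _ (algebraMap B _ (b * φ f ^ (m + 1))) = 0
      rw [Ideal.algebraMap_residueField_eq_zero.2 (Q.asIdeal.mul_mem_left _ (Q.asIdeal.pow_mem_of_mem hQ _ (Nat.succ_pos _))), map_zero]
    · obtain ⟨Q', rfl⟩ : ∃ Q', PrimeSpectrum.comap (algebraMap B (Localization.Away (φ f))) Q' = Q := by
        rw [← Set.mem_range, PrimeSpectrum.localization_away_comap_range (Localization.Away (φ f)) (φ f)]
        exact hQ
      apply (η.map (Ideal.ResidueField.map (PrimeSpectrum.comap (algebraMap B (Localization.Away (φ f))) Q').asIdeal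
        Q'.asIdeal (algebraMap B (Localization.Away (φ f))) rfl)).injective
      rw [← Nmap_component, ← Nmap_component, ← Nmap_comp, ← hcomm, Nmap_comp,
        map_mul, ← hxm, map_mul, map_mul, map_pow, map_pow, map_pow, hxy]
      simp only [η.Nmap_t_apply]
      refine congrFun ?_ Q'
      have hf : Localization.awayMap φ f (algebraMap A (Localization.Away f) f) =
          algebraMap B (Localization.Away (φ f)) (φ f) := DFunLike.congr_fun hcomm f
      rw [hf, map_mul, map_pow, ← hbk]
      simp only [map_mul, map_pow]
      ring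
  · rw [map_mul, map_pow, ← hbk]
    ring

end EtaLib
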