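import Groth.Agent.EtaLib.Spec
import Mathlib.RingTheory.TensorProduct.Nontrivial
import Mathlib.RingTheory.Localization.AtPrime.Basic

/-!
# Descent along integral surjective maps, and the relative ring `η.rel f`
-/

universe u

open EtaPt

open scoped TensorProduct

namespace EtaLib

variable {η : FieldEndo.{u}}
variable {A B C : Type u} [CommRing A] [CommRing B] [CommRing C]

/-- A valuation ring dominated in a field is cut out by it, and all its primes lift. -/
lemma valuation_extension {R : Type u} [CommRing R] [IsDomain R] [ValuationRing R]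
    {L : Type u} [Field L] (i : R →+* L) (hi : Function.Injective i) :
    ∃ (V : ValuationSubring L) (j : R →+* V), V.subtype.comp j = i ∧
      (∀ a b : R, b ≠ 0 → (∃ v : V, i a = i b * v) → b ∣ a) ∧
      Function.Surjective (PrimeSpectrum.comap j) := by
  obtain ⟨V, j, hj, hc⟩ := exists_valuationSubring_center i (IsLocalRing.maximalIdeal R)
    (((RingHom.injective_iff_ker_eq_bot i).1 hi).le.trans bot_le)
  have hji : ∀ a, (j a : L) = i a := fun a => DFunLike.congr_fun hj a
  have hdvd : ∀ a b : R, b ≠ 0 → (∃ v : V, i a = i b * v) → b ∣ a := by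
    rintro a b hb ⟨v, hv⟩
    rcases ValuationRing.dvd_total b a with h | ⟨c, hc'⟩
    · exact h
    · -- `b = a * c`, so `c` is inverse to `v`, hence a unit
      rcases eq_or_ne a 0 with rfl | ha
      · exact dvd_zero b
      have h1 : i a * 1 = i a * (i c * v) := by rw [mul_one, ← mul_assoc, ← map_mul, ← hc', ← hv]
      have h2 : i c * v = 1 := (mul_left_cancel₀ (fun h => ha (hi (h.trans (map_zero i).symm))) h1).symm
      have hu : IsUnit (j c) := IsUnit.of_mul_eq_one v (Subtype.ext (by show (j c : L) * v = 1; rw [hji]; exact h2))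
      have hu' : IsUnit c := by
        by_contra hc''
        have : c ∈ (IsLocalRing.maximalIdeal V).comap j := hc ▸ hc''
        exact this hu
      exact hc' ▸ (hu'.mul_right_dvd).2 dvd_rfl
  refine ⟨V, j, hj, hdvd, fun q => ?_⟩
  rw [← Set.mem_range, PrimeSpectrum.mem_range_comap_iff]
  refine le_antisymm ?_ Ideal.le_comap_map
  intro a ha
  -- the extended ideal consists of the multiples of elements of `q`
  have key : ∀ w ∈ q.asIdeal.map j, ∃ b ∈ q.asIdeal, ∃ v : V, w = j b * v := by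
    intro w hw
    induction hw using Submodule.span_induction with
    | mem w hw => obtain ⟨b, hb, rfl⟩ := hw; exact ⟨b, hb, 1, (mul_one _).symm⟩
    | zero => exact ⟨0, q.asIdeal.zero_mem, 0, by simp⟩
    | add w₁ w₂ _ _ h₁ h₂ =>
      obtain ⟨b₁, hb₁, v₁, rfl⟩ := h₁
      obtain ⟨b₂, hb₂, v₂, rfl⟩ := h₂
      rcases ValuationRing.dvd_total b₁ b₂ with ⟨c, rfl⟩ | ⟨c, rfl⟩
      · exact ⟨b₁, hb₁, v₁ + j c * v₂, by rw [map_mul]; ring⟩
      · exact ⟨b₂, hb₂, j c * v₁ + v₂, by rw [map_mul]; ring⟩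
    | smul c w _ h =>
      obtain ⟨b, hb, v, rfl⟩ := h
      exact ⟨b, hb, c * v, by rw [smul_eq_mul]; ring⟩
  obtain ⟨b, hb, v, hv⟩ := key _ (Ideal.mem_comap.1 ha)
  rcases eq_or_ne b 0 with rfl | hb0
  · rw [map_zero, zero_mul] at hv
    have : a = 0 := hi (by rw [← hji, hv, map_zero]; rfl)
    exact this ▸ q.asIdeal.zero_mem
  · exact q.asIdeal.mem_of_dvd (hdvd a b hb0 ⟨v, by rw [← hji, ← hji, hv]; rfl⟩) hb

/-- Membership in `M` can be tested after an integral surjective map. -/
lemma mem_M_iff_Nmap (f : A →+* B) (hf : f.IsIntegral) (hs : Function.Surjective (PrimeSpectrum.comap f))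
    (x : η.N A) : x ∈ η.M A ↔ η.Nmap f x ∈ η.M B := by
  refine ⟨fun hx => Nmap_mem_M η f hx, fun hfx => mem_M_of η x fun R _ _ _ hR g => ?_⟩
  let K := FractionRing R
  obtain ⟨Q, hQ⟩ := hs (pt ((algebraMap R K).comp g))
  let gK := (algebraMap R K).comp g
  have hker : (PrimeSpectrum.comap f Q).asIdeal = RingHom.ker gK := by rw [hQ]; rfl
  let l : (PrimeSpectrum.comap f Q).asIdeal.ResidueField →+* K :=
    Ideal.ResidueField.lift _ gK hker.le fun s hs' => isUnit_iff_ne_zero.mpr fun h0 => hs' (hker.ge h0)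
  let ι := Ideal.ResidueField.map (PrimeSpectrum.comap f Q).asIdeal Q.asIdeal f rfl
  letI : Algebra (PrimeSpectrum.comap f Q).asIdeal.ResidueField K := l.toAlgebra
  letI : Algebra (PrimeSpectrum.comap f Q).asIdeal.ResidueField Q.asIdeal.ResidueField := ι.toAlgebra
  let T := K ⊗[(PrimeSpectrum.comap f Q).asIdeal.ResidueField] Q.asIdeal.ResidueField
  have : Nontrivial T := Algebra.TensorProduct.nontrivial_of_algebraMap_injective_of_isDomain _ _ _
    (RingHom.injective _) (RingHom.injective _)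
  obtain ⟨M, hM⟩ := Ideal.exists_maximal T
  letI : Field (T ⧸ M) := Ideal.Quotient.field M
  let K' := η.obj (T ⧸ M)
  let σ : K →+* K' := (η.eta _).comp ((Ideal.Quotient.mk M).comp Algebra.TensorProduct.includeLeftRingHom)
  let τ : B →+* K' := ((η.eta _).comp ((Ideal.Quotient.mk M).comp
    (Algebra.TensorProduct.includeRight.toRingHom))).comp (algebraMap B Q.asIdeal.ResidueField)
  have hcomm : τ.comp f = σ.comp gK := by
    ext a
    show η.eta _ (Ideal.Quotient.mk M (1 ⊗ₜ algebraMap B _ (f a))) =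
      η.eta _ (Ideal.Quotient.mk M (gK a ⊗ₜ 1))
    congr 2
    have e1 : algebraMap B Q.asIdeal.ResidueField (f a) =
        algebraMap (PrimeSpectrum.comap f Q).asIdeal.ResidueField _ (algebraMap A _ a) :=
      (Ideal.ResidueField.map_algebraMap _ _ f rfl a).symm
    have e2 : gK a = algebraMap (PrimeSpectrum.comap f Q).asIdeal.ResidueField K (algebraMap A _ a) :=
      (Ideal.ResidueField.lift_algebraMap (I := (PrimeSpectrum.comap f Q).asIdeal) _ _ _ a).symm
    rw [e1, e2, ← Algebra.TensorProduct.algebraMap_apply]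
    exact (Algebra.TensorProduct.algebraMap_apply' _).symm
  have hK' : Function.Bijective (η.eta K') := bij_eta_obj _
  obtain ⟨V, j, hj, hdvd, hjs⟩ := valuation_extension (σ.comp (algebraMap R K))
    (σ.injective.comp (IsFractionRing.injective R K))
  have := isIntegrallyClosed_valuationRing V
  have hτ : ∀ b, τ b ∈ V.toSubring := fun b => by
    obtain ⟨P, hP, hP0⟩ := hf b
    have hint : IsIntegral V (τ b) := by
      refine ⟨P.map (j.comp g), hP.map _, ?_⟩
      show Polynomial.eval₂ V.subtype _ _ = 0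
      rw [Polynomial.eval₂_map, ← RingHom.comp_assoc, hj, RingHom.comp_assoc, ← hcomm, ← Polynomial.hom_eval₂,
        hP0, map_zero]
    obtain ⟨v, hv⟩ := IsIntegrallyClosed.isIntegral_iff.1 hint
    exact hv ▸ v.2
  obtain ⟨r', hr'⟩ := exists_val η hfx (inV_valuationSubring hK' V) (τ.codRestrict V.toSubring hτ)
  have hjg : (τ.codRestrict V.toSubring hτ).comp f = j.comp g := by
    ext a : 1
    apply Subtype.ext
    show τ (f a) = ((V.subtype.comp j) (g a))
    rw [hj]
    exact DFunLike.congr_fun hcomm a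
  have hval : ∀ (L : Type u) [Field L] (i : V →+* L), val η ((i.comp j).comp g) x = η.eta L (i r') := by
    intro L _ i
    rw [RingHom.comp_assoc, ← hjg, ← RingHom.comp_assoc, ← val_Nmap]
    exact hr' L i
  obtain ⟨c, hc⟩ := hR.2 (val η gK x)
  have hσc : σ c = (r' : K') := by
    apply eta_inj (η := η)
    rw [← nat_apply, hc, ← val_comp, show σ.comp gK = (V.subtype.comp j).comp g by rw [hj]; rfl]
    exact hval _ V.subtype
  obtain ⟨a, b, hb, rfl⟩ := IsFractionRing.div_surjective (A := R) c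
  have hb0 : b ≠ 0 := nonZeroDivisors.ne_zero hb
  have hbK : algebraMap R K b ≠ 0 := fun h => hb0 (IsFractionRing.injective R K (h.trans (map_zero _).symm))
  obtain ⟨r, rfl⟩ := hdvd a b hb0 ⟨r', by
    show σ (algebraMap R K a) = σ (algebraMap R K b) * (r' : K')
    rw [← hσc, ← map_mul, mul_div_cancel₀ _ hbK]⟩
  rw [map_mul, mul_div_cancel_left₀ _ hbK] at hσc
  have hjr : j r = r' := Subtype.ext ((DFunLike.congr_fun hj r).trans hσc)
  refine ⟨r, fun q => ?_⟩
  obtain ⟨q', rfl⟩ := hjs q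
  apply (η.map (Ideal.ResidueField.map (PrimeSpectrum.comap j q').asIdeal q'.asIdeal j rfl)).injective
  rw [← val_comp, nat_apply, Ideal.ResidueField.map_algebraMap, hjr, ← RingHom.comp_assoc,
    show (Ideal.ResidueField.map (PrimeSpectrum.comap j q').asIdeal q'.asIdeal j rfl).comp
      (algebraMap R _) = (algebraMap V q'.asIdeal.ResidueField).comp j from
      RingHom.ext fun s => Ideal.ResidueField.map_algebraMap _ _ _ _ s]
  exact hval _ _

section Rel

variable {f : A →+* B}

lemma mem_rel_iff {b : B} : b ∈ η.rel f ↔ ∃ x ∈ η.M A, η.Nmap f x = η.t B b := Iff.rfl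

variable (hs : Function.Surjective (PrimeSpectrum.comap f))

/-- The canonical map `rel f → M A`. -/
noncomputable def relToM : η.rel f →+* η.M A where
  toFun b := ⟨b.2.choose, b.2.choose_spec.1⟩
  map_one' := Subtype.ext (Nmap_injective f hs <| by
    show η.Nmap f _ = η.Nmap f 1
    rw [(1 : η.rel f).2.choose_spec.2, map_one]; exact map_one _)
  map_zero' := Subtype.ext (Nmap_injective f hs <| by
    show η.Nmap f _ = η.Nmap f 0
    rw [(0 : η.rel f).2.choose_spec.2, map_zero]; exact map_zero _)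
  map_add' b c := Subtype.ext (Nmap_injective f hs <| by
    show η.Nmap f _ = η.Nmap f (_ + _)
    rw [map_add, (b + c).2.choose_spec.2, b.2.choose_spec.2, c.2.choose_spec.2]; exact map_add _ _ _)
  map_mul' b c := Subtype.ext (Nmap_injective f hs <| by
    show η.Nmap f _ = η.Nmap f (_ * _)
    rw [map_mul, (b * c).2.choose_spec.2, b.2.choose_spec.2, c.2.choose_spec.2]; exact map_mul _ _ _)

lemma Nmap_relToM (b : η.rel f) : η.Nmap f (relToM hs b : η.N A) = η.t B b :=
  b.2.choose_spec.2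

lemma relToM_comp : (relToM hs).comp (η.qRel f) = η.q A := by
  ext a : 1
  apply Subtype.ext
  apply Nmap_injective f hs
  show η.Nmap f (relToM hs (η.qRel f a) : η.N A) = η.Nmap f (η.t A a)
  rw [Nmap_relToM, η.Nmap_t_apply]
  rfl

lemma relToM_ker (b : η.rel f) (hb : relToM hs b = 0) : IsNilpotent b := by
  obtain ⟨n, hn⟩ := (t_eq_zero_iff (η := η) (b : B)).1 (by rw [← Nmap_relToM hs b, hb]; exact map_zero _)
  exact ⟨n, Subtype.ext hn⟩

variable (hA : (minimalPrimes A).Finite)
include hs hA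

lemma isIntegral_qRel : (η.qRel f).IsIntegral := by
  intro b
  obtain ⟨P, hP, hP0⟩ := isIntegral_q hA (relToM (η := η) hs b)
  obtain ⟨n, hn⟩ := relToM_ker hs (Polynomial.eval₂ (η.qRel f) b P)
    (by rw [Polynomial.hom_eval₂, relToM_comp]; exact hP0)
  exact ⟨P ^ n, hP.pow n, by rw [Polynomial.eval₂_pow, hn]⟩

lemma bij_comap_qRel : Function.Bijective (PrimeSpectrum.comap (η.qRel f)) := by
  have hq := bij_comap_q (η := η) hA
  rw [← relToM_comp hs, PrimeSpectrum.comap_comp, ] at hq
  have hσ : Function.Surjective (PrimeSpectrum.comap (relToM (η := η) hs)) := by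
    intro Q
    have hint : (relToM (η := η) hs).IsIntegral := RingHom.IsIntegral.tower_top _ _
      (by rw [relToM_comp]; exact isIntegral_q hA)
    letI := (relToM (η := η) hs).toAlgebra
    have : Algebra.IsIntegral (η.rel f) (η.M A) := ⟨hint⟩
    obtain ⟨P, -, hP, hPQ⟩ := Ideal.exists_ideal_over_prime_of_isIntegral Q.asIdeal (⊥ : Ideal (η.M A)) (fun b hb =>
      by
        obtain ⟨n, hn⟩ := relToM_ker hs b hb
        exact Q.isPrime.mem_of_pow_mem n (hn ▸ Q.asIdeal.zero_mem))
    exact ⟨⟨P, hP⟩, PrimeSpectrum.ext hPQ⟩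
  refine ⟨fun Q₁ Q₂ h => ?_, Function.Surjective.of_comp hq.2⟩
  obtain ⟨P₁, rfl⟩ := hσ Q₁
  obtain ⟨P₂, rfl⟩ := hσ Q₂
  exact congrArg _ (hq.1 h)

lemma exists_phi_qRel (Q : PrimeSpectrum (η.rel f)) :
    ∃ φ : Q.asIdeal.ResidueField →+* η.obj (PrimeSpectrum.comap (η.qRel f) Q).asIdeal.ResidueField,
      φ.comp (Ideal.ResidueField.map (PrimeSpectrum.comap (η.qRel f) Q).asIdeal Q.asIdeal (η.qRel f) rfl) =
        η.eta (PrimeSpectrum.comap (η.qRel f) Q).asIdeal.ResidueField := by
  obtain ⟨P, hP⟩ := (bij_comap_q (η := η) hA).2 (PrimeSpectrum.comap (η.qRel f) Q)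
  have hQ : PrimeSpectrum.comap (relToM (η := η) hs) P = Q := by
    apply (bij_comap_qRel hs hA).1
    rw [← PrimeSpectrum.comap_comp_apply, relToM_comp, hP]
  have hker : RingHom.ker ((ev (η := η) (PrimeSpectrum.comap (η.qRel f) Q)).comp (relToM hs)) = Q.asIdeal := by
    rw [← RingHom.comap_ker, ← hP, ← prime_eq_ker_ev hA P]
    exact congrArg PrimeSpectrum.asIdeal hQ
  refine ⟨Ideal.ResidueField.lift Q.asIdeal ((ev (PrimeSpectrum.comap (η.qRel f) Q)).comp (relToM hs)) hker.ge
    (fun s hs' => isUnit_iff_ne_zero.mpr fun h0 => hs' (hker.le h0)), ?_⟩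
  refine Ideal.ResidueField.ringHom_ext (RingHom.ext fun a => ?_)
  rw [RingHom.comp_apply, RingHom.comp_apply, Ideal.ResidueField.map_algebraMap, Ideal.ResidueField.lift_algebraMap,
    RingHom.comp_apply, ← RingHom.comp_apply (relToM hs), relToM_comp]
  rfl

lemma bij_Nmap_qRel : Function.Bijective (η.Nmap (η.qRel f)) :=
  bij_Nmap_of _ (bij_comap_qRel hs hA) (exists_phi_qRel hs hA)

end Rel

lemma range_le_rel (f₁ : A →+* B) (f₂ : B →+* C) (h₁ : f₁.IsIntegral) (hN : Function.Bijective (η.Nmap f₁)) :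
    f₂.range ≤ η.rel (f₂.comp f₁) := by
  rintro _ ⟨b, rfl⟩
  obtain ⟨x, hx, hxb⟩ := (bijOn_M f₁ h₁ hN).2.2 (η.t_mem_M B b)
  exact ⟨x, hx, by rw [Nmap_comp, hxb, η.Nmap_t_apply]⟩

/-- `rel` is functorial in commutative squares. -/
lemma rel_map {A' B' : Type u} [CommRing A'] [CommRing B'] (j : A →+* B) (f : A →+* A') (g : B →+* B')
    (j' : A' →+* B') (hcomm : j'.comp f = g.comp j) {b : B} (hb : b ∈ η.rel j) : g b ∈ η.rel j' := by
  obtain ⟨x, hx, hxb⟩ := hb
  exact ⟨η.Nmap f x, Nmap_mem_M η f hx, by rw [← Nmap_comp, hcomm, Nmap_comp, hxb, η.Nmap_t_apply]⟩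

lemma bij_qRel_iff (f : A →+* B) :
    Function.Bijective (η.qRel f) ↔ Function.Injective f ∧ η.rel f ≤ f.range := by
  constructor
  · exact fun h => ⟨fun a b hab => h.1 (Subtype.ext hab), fun b hb => by
      obtain ⟨a, ha⟩ := h.2 ⟨b, hb⟩
      exact ⟨a, congrArg Subtype.val ha⟩⟩
  · exact fun h => ⟨fun a b hab => h.1 (congrArg Subtype.val hab), fun b => by
      obtain ⟨a, ha⟩ := h.2 b.2
      exact ⟨a, Subtype.ext ha⟩⟩

end EtaLib
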