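import Groth.Agent.EtaLib.Basic
import Mathlib.RingTheory.Spectrum.Prime.Topology
import Mathlib.RingTheory.Valuation.Integral
import Mathlib.RingTheory.Bezout
import Mathlib.RingTheory.Polynomial.RationalRoot

/-!
# Bijectivity of `η.Nmap`, and the spectrum of `η.M A`
-/

universe u

open EtaPt

namespace EtaLib

variable {η : FieldEndo.{u}}
variable {A B : Type u} [CommRing A] [CommRing B]

lemma Nmap_component (f : A →+* B) (x : η.N A) (Q : PrimeSpectrum B) :
    η.Nmap f x Q = η.map (Ideal.ResidueField.map (PrimeSpectrum.comap f Q).asIdeal Q.asIdeal f rfl)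
      (x (PrimeSpectrum.comap f Q)) := rfl

/-- A retraction of `η` through the residue extension makes its image under `F` bijective. -/
lemma bij_map_of_phi {k L : Type u} [Field k] [Field L] (ι : k →+* L) (φ : L →+* η.obj k)
    (h : φ.comp ι = η.eta k) : Function.Bijective (η.map ι) := by
  have hbij := η.bijective_map_eta k
  rw [← h, η.map_comp, RingHom.coe_comp] at hbij
  have hφ : Function.Bijective (η.map φ) := ⟨(η.map φ).injective, hbij.2.of_comp⟩
  exact (Function.Bijective.of_comp_iff' hφ _).1 hbij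

lemma exists_phi_of_bij_map {k L : Type u} [Field k] [Field L] (ι : k →+* L)
    (h : Function.Bijective (η.map ι)) : ∃ φ : L →+* η.obj k, φ.comp ι = η.eta k := by
  refine ⟨(RingEquiv.ofBijective (η.map ι) h).symm.toRingHom.comp (η.eta L), ?_⟩
  ext c
  apply h.1
  show η.map ι ((RingEquiv.ofBijective (η.map ι) h).symm (η.eta L (ι c))) = _
  refine ((RingEquiv.ofBijective (η.map ι) h).apply_symm_apply _).trans ?_
  rw [nat_apply]

lemma Nmap_injective (f : A →+* B) (hs : Function.Surjective (PrimeSpectrum.comap f)) :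
    Function.Injective (η.Nmap f) := by
  intro x y h
  funext p
  obtain ⟨Q, rfl⟩ := hs p
  exact (η.map _).injective (congrFun h Q)

lemma bij_comap_of_bij_Nmap (f : A →+* B) (h : Function.Bijective (η.Nmap f)) :
    Function.Bijective (PrimeSpectrum.comap f) := by
  classical
  constructor
  · intro Q₁ Q₂ he
    by_contra hne
    obtain ⟨x, hx⟩ := h.2 (Pi.single Q₁ 1)
    have h1 : η.Nmap f x Q₁ = 1 := by rw [hx, Pi.single_eq_same]
    have h2 : η.Nmap f x Q₂ = 0 := by rw [hx, Pi.single_eq_of_ne (Ne.symm hne)]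
    rw [Nmap_component, map_eq_one_iff _ (η.map _).injective] at h1
    rw [Nmap_component, map_eq_zero] at h2
    have key : ∀ p q : PrimeSpectrum A, p = q → x p = 1 → x q = 0 → False := by
      rintro p q rfl h1 h2; exact one_ne_zero (h1.symm.trans h2)
    exact key _ _ he h1 h2
  · intro p
    by_contra hno
    push Not at hno
    have : η.Nmap f (Pi.single p 1) = η.Nmap f 0 := by
      funext Q
      rw [Nmap_component, Pi.single_eq_of_ne (hno Q), map_zero, map_zero]
      rfl
    exact one_ne_zero (Pi.single_eq_zero_iff.1 (h.1 this))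

lemma bij_component_of_bij_Nmap (f : A →+* B) (h : Function.Bijective (η.Nmap f)) (Q : PrimeSpectrum B) :
    Function.Bijective (η.map (Ideal.ResidueField.map (PrimeSpectrum.comap f Q).asIdeal Q.asIdeal f rfl)) := by
  classical
  refine ⟨(η.map _).injective, fun z => ?_⟩
  obtain ⟨x, hx⟩ := h.2 (Pi.single Q z)
  exact ⟨x (PrimeSpectrum.comap f Q), by rw [← Nmap_component, hx, Pi.single_eq_same]⟩

lemma exists_phi_of_bij_Nmap (f : A →+* B) (h : Function.Bijective (η.Nmap f)) (Q : PrimeSpectrum B) :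
    ∃ φ : Q.asIdeal.ResidueField →+* η.obj (PrimeSpectrum.comap f Q).asIdeal.ResidueField,
      φ.comp (Ideal.ResidueField.map (PrimeSpectrum.comap f Q).asIdeal Q.asIdeal f rfl) =
        η.eta (PrimeSpectrum.comap f Q).asIdeal.ResidueField :=
  exists_phi_of_bij_map _ (bij_component_of_bij_Nmap f h Q)

lemma bij_Nmap_of (f : A →+* B) (hb : Function.Bijective (PrimeSpectrum.comap f))
    (hφ : ∀ Q : PrimeSpectrum B,
      ∃ φ : Q.asIdeal.ResidueField →+* η.obj (PrimeSpectrum.comap f Q).asIdeal.ResidueField,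
        φ.comp (Ideal.ResidueField.map (PrimeSpectrum.comap f Q).asIdeal Q.asIdeal f rfl) =
          η.eta (PrimeSpectrum.comap f Q).asIdeal.ResidueField) :
    Function.Bijective (η.Nmap f) := by
  refine ⟨Nmap_injective f hb.2, fun z => ?_⟩
  have hc : ∀ Q, ∃ w, η.map (Ideal.ResidueField.map (PrimeSpectrum.comap f Q).asIdeal Q.asIdeal f rfl) w = z Q :=
    fun Q => by
      obtain ⟨φ, h⟩ := hφ Q
      exact (bij_map_of_phi _ φ h).2 (z Q)
  choose w hw using hc
  let e := Equiv.ofBijective (PrimeSpectrum.comap f) hb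
  have hx : ∃ x : η.N A, ∀ Q, x (PrimeSpectrum.comap f Q) = w Q :=
    ⟨Equiv.piCongrLeft (fun p : PrimeSpectrum A => η.obj p.asIdeal.ResidueField) e w,
      fun Q => Equiv.piCongrLeft_apply_apply (fun p : PrimeSpectrum A => η.obj p.asIdeal.ResidueField) e w Q⟩
  obtain ⟨x, hx⟩ := hx
  exact ⟨x, funext fun Q => by rw [Nmap_component, hx, hw]⟩

/-- Maps to fields with bijective `η` extend along `f`. -/
lemma exists_extend_field (f : A →+* B) (hN : Function.Bijective (η.Nmap f))
    {L : Type u} [Field L] (hL : Function.Bijective (η.eta L)) (h : A →+* L) :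
    ∃ h' : B →+* L, h'.comp f = h := by
  obtain ⟨Q, hQ⟩ := (bij_comap_of_bij_Nmap f hN).2 (pt h)
  obtain ⟨φ, hφ⟩ := exists_phi_of_bij_Nmap f hN Q
  have hker : (PrimeSpectrum.comap f Q).asIdeal = RingHom.ker h := by rw [hQ]; rfl
  let l : (PrimeSpectrum.comap f Q).asIdeal.ResidueField →+* L :=
    Ideal.ResidueField.lift _ h hker.le fun s hs => isUnit_iff_ne_zero.mpr fun h0 => hs (hker.ge h0)
  refine ⟨(((RingEquiv.ofBijective _ hL).symm.toRingHom.comp (η.map l)).comp φ).comp
    (algebraMap B Q.asIdeal.ResidueField), ?_⟩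
  ext a
  have h1 := DFunLike.congr_fun hφ (algebraMap A (PrimeSpectrum.comap f Q).asIdeal.ResidueField a)
  rw [RingHom.comp_apply, Ideal.ResidueField.map_algebraMap] at h1
  apply hL.1
  show η.eta L ((RingEquiv.ofBijective _ hL).symm (η.map l (φ (algebraMap B _ (f a))))) = _
  refine ((RingEquiv.ofBijective _ hL).apply_symm_apply _).trans ?_
  rw [h1, nat_apply]
  exact congrArg (η.eta L) (Ideal.ResidueField.lift_algebraMap (I := (PrimeSpectrum.comap f Q).asIdeal) _ _ _ a)

lemma isIntegrallyClosed_valuationRing (R : Type u) [CommRing R] [IsDomain R] [ValuationRing R] :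
    IsIntegrallyClosed R := by
  refine Valuation.Integers.isIntegrallyClosed (v := ValuationRing.valuation R (FractionRing R)) ⟨?_, ?_, ?_⟩
  · exact IsFractionRing.injective R _
  · exact fun a => (ValuationRing.mem_integer_iff R _ _).2 ⟨a, rfl⟩
  · exact fun {x} hx => (ValuationRing.mem_integer_iff R _ x).1 hx

lemma exists_extend (f : A →+* B) (hf : f.IsIntegral) (hN : Function.Bijective (η.Nmap f))
    (R : Type u) [CommRing R] [IsDomain R] [ValuationRing R] (hR : η.InV R) (g : A →+* R) :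
    ∃ g' : B →+* R, g'.comp f = g := by
  obtain ⟨h', hh'⟩ := exists_extend_field f hN hR ((algebraMap R (FractionRing R)).comp g)
  have hmem : ∀ b, h' b ∈ (algebraMap R (FractionRing R)).range := fun b => by
    obtain ⟨P, hP, hP0⟩ := hf b
    have := isIntegrallyClosed_valuationRing R
    refine IsIntegrallyClosed.isIntegral_iff.1 ⟨P.map g, hP.map g, ?_⟩
    rw [Polynomial.eval₂_map, ← hh', ← Polynomial.hom_eval₂, hP0, map_zero]
  let e := RingEquiv.ofBijective (algebraMap R (FractionRing R)).rangeRestrict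
    ⟨fun a b h => IsFractionRing.injective R (FractionRing R) (congrArg Subtype.val h),
      RingHom.rangeRestrict_surjective _⟩
  refine ⟨e.symm.toRingHom.comp (h'.codRestrict _ hmem), ?_⟩
  ext a
  apply e.injective
  show e (e.symm _) = e _
  rw [e.apply_symm_apply]
  exact Subtype.ext (DFunLike.congr_fun hh' a)

/-- `M` is invariant under integral maps with bijective `Nmap`. -/
lemma bijOn_M (f : A →+* B) (hf : f.IsIntegral) (hN : Function.Bijective (η.Nmap f)) :
    Set.BijOn (η.Nmap f) (η.M A) (η.M B) := by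
  refine ⟨fun x hx => Nmap_mem_M η f hx, hN.1.injOn, fun y hy => ?_⟩
  obtain ⟨x, rfl⟩ := hN.2 y
  refine ⟨x, fun R _ _ _ hR g => ?_, rfl⟩
  obtain ⟨g', rfl⟩ := exists_extend f hf hN R hR g
  rw [Nmap_comp]
  exact hy R hR g'

lemma t_eq_zero_iff (a : A) : η.t A a = 0 ↔ IsNilpotent a := by
  rw [nilpotent_iff_mem_prime]
  refine ⟨fun h J hJ => ?_, fun h => funext fun p => ?_⟩
  · have h0 := congrFun h ⟨J, hJ⟩
    have h1 : algebraMap A J.ResidueField a = 0 := eta_inj (η := η) (h0.trans (map_zero (η.eta J.ResidueField)).symm)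
    exact Ideal.algebraMap_residueField_eq_zero.1 h1
  · show η.eta _ (algebraMap A _ a) = 0
    rw [Ideal.algebraMap_residueField_eq_zero.2 (h _ p.isPrime), map_zero]

lemma t_injective [IsReduced A] : Function.Injective (η.t A) :=
  (injective_iff_map_eq_zero _).2 fun a h => ((t_eq_zero_iff a).1 h).eq_zero

section M

/-- Evaluation of an element of `M` at a point. -/
noncomputable def ev (p : PrimeSpectrum A) : η.M A →+* η.obj p.asIdeal.ResidueField :=
  (Pi.evalRingHom (fun p : PrimeSpectrum A => η.obj p.asIdeal.ResidueField) p).comp (η.M A).subtype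

lemma ev_q (p : PrimeSpectrum A) (a : A) :
    ev p (η.q A a) = η.eta p.asIdeal.ResidueField (algebraMap A p.asIdeal.ResidueField a) := rfl

lemma exists_ker_ev_le (hA : (minimalPrimes A).Finite) (P : Ideal (η.M A)) [P.IsPrime] :
    ∃ q : PrimeSpectrum A, RingHom.ker (ev (η := η) q) ≤ P := by
  have hfin : {q : PrimeSpectrum A | q.asIdeal ∈ minimalPrimes A}.Finite :=
    hA.preimage (fun p _ q _ h => PrimeSpectrum.ext h)
  have : hfin.toFinset.inf (fun q => RingHom.ker (ev (η := η) q)) ≤ P := by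
    intro x hx
    rw [Submodule.mem_finsetInf] at hx
    have : x = 0 := Subtype.ext (eq_of_minimalPrimes x.2 (η.M A).zero_mem fun q hq =>
      hx q (hfin.mem_toFinset.2 hq))
    rw [this]; exact P.zero_mem
  obtain ⟨q, -, hq⟩ := (Ideal.IsPrime.inf_le' ‹P.IsPrime›).1 this
  exact ⟨q, hq⟩

/-- The prime of `M A` over `p` is the kernel of the evaluation at `p`. -/
lemma prime_eq_ker_ev (hA : (minimalPrimes A).Finite) (P : PrimeSpectrum (η.M A)) :
    P.asIdeal = RingHom.ker (ev (η := η) (PrimeSpectrum.comap (η.q A) P)) := by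
  obtain ⟨q, hq⟩ := exists_ker_ev_le hA P.asIdeal
  obtain ⟨V, h', hh', hc⟩ := exists_valuationSubring_center (ev (η := η) q) P.asIdeal hq
  have hg : V.subtype.comp (h'.comp (η.q A)) = (ev q).comp (η.q A) := by rw [← RingHom.comp_assoc, hh']
  ext x
  have hy : η.eta (η.obj q.asIdeal.ResidueField) (ev q x) = val η ((ev q).comp (η.q A)) (x : η.N A) := by
    rw [show (ev q).comp (η.q A) = (η.eta _).comp (algebraMap A q.asIdeal.ResidueField) from rfl,
      val_comp, val_self, eta_obj]
    rfl
  obtain ⟨hyV, h⟩ := val_center_maximal x.2 (bij_eta_obj q.asIdeal.ResidueField) _ hy V _ hg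
    (PrimeSpectrum.comap (η.q A) P) (by rw [← Ideal.comap_comap, hc]; rfl)
  rw [RingHom.mem_ker]
  refine Iff.trans ?_ h.symm
  rw [← hc, Ideal.mem_comap]
  have : h' x = ⟨ev q x, hyV⟩ := Subtype.ext (DFunLike.congr_fun hh' x)
  rw [this]

lemma bij_comap_q (hA : (minimalPrimes A).Finite) : Function.Bijective (PrimeSpectrum.comap (η.q A)) := by
  refine ⟨fun P P' h => PrimeSpectrum.ext ?_, fun p => ⟨⟨RingHom.ker (ev p), RingHom.ker_isPrime _⟩, ?_⟩⟩
  · rw [prime_eq_ker_ev hA P, prime_eq_ker_ev hA P', h]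
  · refine PrimeSpectrum.ext ?_
    show (RingHom.ker (ev p)).comap (η.q A) = p.asIdeal
    rw [RingHom.comap_ker, show (ev p).comp (η.q A) = (η.eta _).comp (algebraMap A p.asIdeal.ResidueField) from rfl,
      RingHom.ker_comp_of_injective _ (η.eta p.asIdeal.ResidueField).injective, Ideal.ker_algebraMap_residueField]

/-- The retraction `k(P) → F k(p)`. -/
noncomputable def phiQ (hA : (minimalPrimes A).Finite) (P : PrimeSpectrum (η.M A)) :
    P.asIdeal.ResidueField →+* η.obj (PrimeSpectrum.comap (η.q A) P).asIdeal.ResidueField :=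
  Ideal.ResidueField.lift P.asIdeal (ev _) (prime_eq_ker_ev hA P).le fun s hs =>
    isUnit_iff_ne_zero.mpr fun h0 => hs ((prime_eq_ker_ev hA P).ge h0)

lemma phiQ_apply (hA : (minimalPrimes A).Finite) (P : PrimeSpectrum (η.M A)) (x : η.M A) :
    phiQ hA P (algebraMap _ P.asIdeal.ResidueField x) = (x : η.N A) (PrimeSpectrum.comap (η.q A) P) := by
  rw [phiQ, Ideal.ResidueField.lift_algebraMap]
  rfl

lemma phiQ_comp (hA : (minimalPrimes A).Finite) (P : PrimeSpectrum (η.M A)) :
    (phiQ hA P).comp (Ideal.ResidueField.map (PrimeSpectrum.comap (η.q A) P).asIdeal P.asIdeal (η.q A) rfl) =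
      η.eta (PrimeSpectrum.comap (η.q A) P).asIdeal.ResidueField := by
  refine Ideal.ResidueField.ringHom_ext (RingHom.ext fun a => ?_)
  rw [RingHom.comp_apply, RingHom.comp_apply, Ideal.ResidueField.map_algebraMap, phiQ_apply]
  rfl

lemma bij_Nmap_q (hA : (minimalPrimes A).Finite) : Function.Bijective (η.Nmap (η.q A)) :=
  bij_Nmap_of _ (bij_comap_q hA) fun P => ⟨phiQ hA P, phiQ_comp hA P⟩

lemma Nmap_q (hA : (minimalPrimes A).Finite) (x : η.M A) :
    η.Nmap (η.q A) (x : η.N A) = η.t (η.M A) x := by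
  funext P
  apply (η.map (phiQ hA P)).injective
  rw [Nmap_component, ← map_comp_apply, phiQ_comp, ← eta_obj]
  show _ = η.map (phiQ hA P) (η.eta _ (algebraMap _ _ x))
  rw [nat_apply, phiQ_apply]

lemma isIntegral_q (hA : (minimalPrimes A).Finite) : (η.q A).IsIntegral := by
  classical
  intro x
  have hfin : {q : PrimeSpectrum A | q.asIdeal ∈ minimalPrimes A}.Finite :=
    hA.preimage (fun p _ q _ h => PrimeSpectrum.ext h)
  have h := fun q : PrimeSpectrum A => isIntegralElem_component x.2 q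
  choose P hP hP0 using h
  refine ⟨∏ q ∈ hfin.toFinset, P q, Polynomial.monic_prod_of_monic _ _ fun q _ => hP q, ?_⟩
  apply Subtype.ext
  refine eq_of_minimalPrimes (SetLike.coe_mem _) (η.M A).zero_mem fun q hq => ?_
  show ev q (Polynomial.eval₂ (η.q A) x _) = 0
  rw [Polynomial.hom_eval₂, Polynomial.eval₂_finsetProd]
  exact Finset.prod_eq_zero (hfin.mem_toFinset.2 hq) (hP0 q)

lemma bij_q_M (hA : (minimalPrimes A).Finite) : Function.Bijective (η.q (η.M A)) := by
  obtain ⟨-, h2, h3⟩ := bijOn_M (η.q A) (isIntegral_q hA) (bij_Nmap_q hA)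
  constructor
  · intro x y h
    refine Subtype.ext (h2 x.2 y.2 ?_)
    rw [Nmap_q hA, Nmap_q hA]
    exact congrArg Subtype.val h
  · intro z
    obtain ⟨x, hx, hxz⟩ := h3 z.2
    exact ⟨⟨x, hx⟩, Subtype.ext (show η.t (η.M A) ⟨x, hx⟩ = z from (Nmap_q hA ⟨x, hx⟩).symm.trans hxz)⟩

/-- The universal property of `q`. -/
lemma existsUnique_factor (hA : (minimalPrimes A).Finite) (g : A →+* B) (hg : g.IsIntegral)
    (hN : Function.Bijective (η.Nmap g)) : ∃! g' : B →+* η.M A, g'.comp g = η.q A := by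
  let e := RingEquiv.ofBijective (η.Nmap g) hN
  have hmem : ∀ b, (e.symm.toRingHom.comp (η.t B)) b ∈ η.M A := fun b => by
    obtain ⟨x, hx, hxb⟩ := (bijOn_M g hg hN).2.2 (η.t_mem_M B b)
    have : e.symm (η.t B b) = x := e.symm_apply_eq.2 hxb.symm
    show e.symm (η.t B b) ∈ η.M A
    rw [this]; exact hx
  refine ⟨(e.symm.toRingHom.comp (η.t B)).codRestrict _ hmem, ?_, fun h hh => ?_⟩
  · ext a : 1
    apply Subtype.ext
    show e.symm (η.t B (g a)) = η.t A a
    rw [e.symm_apply_eq]
    exact (η.Nmap_t_apply g a).symm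
  · ext b : 1
    apply Subtype.ext
    show (h b : η.N A) = e.symm (η.t B b)
    apply (bij_Nmap_q (η := η) hA).1
    rw [Nmap_q hA, ← hh, Nmap_comp, show η.Nmap g (e.symm (η.t B b)) = η.t B b from e.apply_symm_apply _,
      η.Nmap_t_apply]

end M

end EtaLib
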