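import Groth.Agent.EtaLib.Spec
import Mathlib.FieldTheory.Perfect
import Mathlib.RingTheory.IntegralClosure.IntegrallyClosed

/-!
# `η.M` of fields, valuation rings, normal domains
-/

universe u

open EtaPt

namespace EtaLib

variable {η : FieldEndo.{u}}

/-- A family having a power in the diagonal lies in `M`. -/
lemma mem_M_of_pow {A : Type u} [CommRing A] (x : η.N A) (e n : ℕ)
    (hexp : ∀ (K : Type u) [Field K], (A →+* K) → ExpChar K e)
    (a : A) (h : x ^ e ^ n = η.t A a) : x ∈ η.M A := by
  refine mem_M_of η x fun R _ _ _ hR g => ?_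
  obtain ⟨y, hy⟩ := hR.2 (val η ((algebraMap R (FractionRing R)).comp g) x)
  have := hexp (FractionRing R) ((algebraMap R (FractionRing R)).comp g)
  have hy' : y ^ e ^ n = algebraMap R (FractionRing R) (g a) := by
    apply eta_inj (η := η)
    rw [map_pow, hy, ← map_pow, h, val_t]
    rfl
  have := isIntegrallyClosed_valuationRing R
  have hpos : 0 < e ^ n := pow_pos (expChar_pos (FractionRing R) e) n
  have hint : IsIntegral R y := IsIntegral.of_pow hpos (by rw [hy']; exact isIntegral_algebraMap)
  obtain ⟨r, rfl⟩ := IsIntegrallyClosed.isIntegral_iff.1 hint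
  have hr : r ^ e ^ n = g a := IsFractionRing.injective R (FractionRing R) (by rw [map_pow, hy'])
  refine ⟨r, fun q => ?_⟩
  have hq := hexp q.asIdeal.ResidueField ((algebraMap R q.asIdeal.ResidueField).comp g)
  have : ExpChar (η.obj q.asIdeal.ResidueField) e :=
    expChar_of_injective_ringHom (η.eta q.asIdeal.ResidueField).injective e
  refine eq_of_pow_eq e n ?_
  rw [← map_pow, h, val_t, ← map_pow, ← map_pow, hr]
  rfl

/-- The image of `t` on an integrally closed domain with bijective `η` at the fraction field. -/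
lemma bij_q_of_isIntegrallyClosed (A : Type u) [CommRing A] [IsDomain A] [IsIntegrallyClosed A]
    (hA : η.InV A) : Function.Bijective (η.q A) := by
  refine ⟨fun a b h => t_injective (congrArg Subtype.val h), fun x => ?_⟩
  obtain ⟨y, hy⟩ := hA.2 (val η (algebraMap A (FractionRing A)) (x : η.N A))
  have hint : IsIntegral A y := isIntegralElem_val x.2 hA _ hy
  obtain ⟨a, rfl⟩ := IsIntegrallyClosed.isIntegral_iff.1 hint
  refine ⟨a, Subtype.ext (eq_of_minimalPrimes (η.t_mem_M A a) x.2 fun q hq => ?_)⟩
  obtain rfl : q = ⟨⊥, Ideal.isPrime_bot⟩ := by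
    refine PrimeSpectrum.ext ?_
    have : q.asIdeal ∈ ({⊥} : Set (Ideal A)) := IsDomain.minimalPrimes_eq_singleton_bot A ▸ hq
    exact this
  let ι : (⊥ : Ideal A).ResidueField →+* FractionRing A :=
    Ideal.ResidueField.lift ⊥ (algebraMap A (FractionRing A)) bot_le fun s hs =>
      isUnit_iff_ne_zero.mpr fun h0 => hs (by simpa using (IsFractionRing.injective A (FractionRing A)).eq_iff' (map_zero _) |>.1 h0)
  have hι : ι.comp (algebraMap A (⊥ : Ideal A).ResidueField) = algebraMap A (FractionRing A) := by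
    ext; simp [ι]
  apply (η.map ι).injective
  rw [val_eq η _ ⟨⊥, Ideal.isPrime_bot⟩ ι hι, val_eq η _ ⟨⊥, Ideal.isPrime_bot⟩ ι hι,
    show ((η.q A a : η.M A) : η.N A) = η.t A a from rfl, val_t]
  exact hy

lemma M_field_eq_top (K : Type u) [Field K] : η.M K = ⊤ := by
  refine (Subring.eq_top_iff' _).2 fun x => ?_
  let p₀ : PrimeSpectrum K := ⟨⊥, Ideal.isPrime_bot⟩
  have huniq : ∀ p : PrimeSpectrum K, p = p₀ := fun p =>
    PrimeSpectrum.ext ((Ideal.eq_bot_or_top p.asIdeal).resolve_right p.isPrime.ne_top)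
  obtain ⟨n, c, hc⟩ := η.exists_pow_mem_range_eta p₀.asIdeal.ResidueField (x p₀)
  obtain ⟨a, rfl⟩ : ∃ a, algebraMap K p₀.asIdeal.ResidueField a = c := by
    have : p₀.asIdeal.IsMaximal := Ideal.bot_isMaximal
    exact Ideal.algebraMap_residueField_surjective _ c
  have : ExpChar K (ringExpChar p₀.asIdeal.ResidueField) :=
    ((algebraMap K p₀.asIdeal.ResidueField).expChar_iff (algebraMap K p₀.asIdeal.ResidueField).injective _).2 inferInstance
  refine mem_M_of_pow x (ringExpChar p₀.asIdeal.ResidueField) n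
    (fun L _ f => expChar_of_injective_ringHom f.injective _) a (funext fun p => ?_)
  rw [huniq p]
  exact hc.symm

lemma charP_of_expChar_ne_one (L : Type u) [Field L] (e : ℕ) [h : ExpChar L e] (hne : e ≠ 1) : CharP L e := by
  cases h with
  | zero => exact absurd rfl hne
  | prime hp => assumption

section ValuationRing

variable (R : Type u) [CommRing R] [IsDomain R] [ValuationRing R]

/-- The generic point. -/
abbrev genPt : PrimeSpectrum R := ⟨⊥, Ideal.isPrime_bot⟩

lemma injOn_generic {A : Type u} [CommRing A] [IsDomain A] :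
    Set.InjOn (fun x : η.N A => x ⟨⊥, Ideal.isPrime_bot⟩) (η.M A) := by
  intro x hx y hy h
  refine eq_of_minimalPrimes hx hy fun q hq => ?_
  obtain rfl : q = ⟨⊥, Ideal.isPrime_bot⟩ := by
    refine PrimeSpectrum.ext ?_
    have : q.asIdeal ∈ ({⊥} : Set (Ideal A)) := IsDomain.minimalPrimes_eq_singleton_bot A ▸ hq
    exact this
  exact h

variable {R}

lemma exists_of_isIntegralElem
    (hη : η.InV R ∨ ∀ (k : Type u) [Field k], ringChar k = ringChar R →
      Function.Bijective (η.eta k) → PerfectField k)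
    (y : η.obj (⊥ : Ideal R).ResidueField)
    (hy : ((η.eta (⊥ : Ideal R).ResidueField).comp (algebraMap R (⊥ : Ideal R).ResidueField)).IsIntegralElem y) :
    ∃ x ∈ η.M R, x (genPt R) = y := by
  have := isIntegrallyClosed_valuationRing R
  obtain ⟨n, c, hc⟩ := η.exists_pow_mem_range_eta (⊥ : Ideal R).ResidueField y
  set e := ringExpChar (⊥ : Ideal R).ResidueField with he
  -- `c` is integral over `R`
  have hc' : IsIntegral R c := by
    obtain ⟨P, hP, hP0⟩ := hy
    let φ := (η.eta (⊥ : Ideal R).ResidueField).comp (algebraMap R (⊥ : Ideal R).ResidueField)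
    have hy' : φ.IsIntegralElem (y ^ e ^ n) := by
      letI := φ.toAlgebra
      exact IsIntegral.pow (R := R) ⟨P, hP, hP0⟩ _
    obtain ⟨Q, hQ, hQ0⟩ := hy'
    refine ⟨Q, hQ, eta_inj (η := η) ?_⟩
    rw [Polynomial.hom_eval₂, hc, map_zero]
    exact hQ0
  obtain ⟨a, rfl⟩ := IsIntegrallyClosed.isIntegral_iff.1 hc'
  rcases eq_or_ne e 1 with h1 | h1
  · exact ⟨η.t R a, η.t_mem_M R a, by rw [h1, one_pow, pow_one] at hc; exact hc⟩
  rcases hη with hη | hη
  · obtain ⟨b, hb⟩ := ((inV_iff (⊥ : Ideal R).ResidueField).1 hη).2 y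
    have hbi : IsIntegral R b := by
      obtain ⟨P, hP, hP0⟩ := hy
      refine ⟨P, hP, eta_inj (η := η) ?_⟩
      rw [Polynomial.hom_eval₂, hb, map_zero]
      exact hP0
    obtain ⟨b, rfl⟩ := IsIntegrallyClosed.isIntegral_iff.1 hbi
    exact ⟨η.t R b, η.t_mem_M R b, hb⟩
  -- positive characteristic, perfect targets
  have hexp0 : ExpChar (⊥ : Ideal R).ResidueField e := inferInstance
  have hp : e.Prime := (expChar_is_prime_or_one (⊥ : Ideal R).ResidueField e).resolve_right h1
  have hchar : CharP (⊥ : Ideal R).ResidueField e := charP_of_expChar_ne_one _ e hp.ne_one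
  have hR : CharP R e :=
    (RingHom.charP_iff _ (IsFractionRing.injective R (⊥ : Ideal R).ResidueField) e).2 hchar
  have hexp : ∀ (K : Type u) [Field K], (R →+* K) → ExpChar K e := fun K _ f => by
    have : CharP K e := (CharP.charP_iff_prime_eq_zero hp).2 (by rw [← map_natCast f, CharP.cast_eq_zero, map_zero])
    exact ExpChar.prime hp
  have hroot : ∀ p : PrimeSpectrum R, ∃ z : η.obj p.asIdeal.ResidueField, z ^ e ^ n = η.t R a p := fun p => by
    have hk := hexp p.asIdeal.ResidueField (algebraMap R _)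
    have : ExpChar (η.obj p.asIdeal.ResidueField) e :=
      expChar_of_injective_ringHom (η.eta p.asIdeal.ResidueField).injective e
    have : CharP (η.obj p.asIdeal.ResidueField) e := charP_of_expChar_ne_one _ e hp.ne_one
    have hperf := hη (η.obj p.asIdeal.ResidueField)
      (by rw [ringChar.eq (η.obj p.asIdeal.ResidueField) e, ringChar.eq R e]) (bij_eta_obj _)
    exact (bijective_iterateFrobenius (η.obj p.asIdeal.ResidueField) e n).2 _
  choose z hz using hroot
  refine ⟨z, mem_M_of_pow z e n hexp a (funext hz), ?_⟩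
  have : ExpChar (η.obj (genPt R).asIdeal.ResidueField) e :=
    expChar_of_injective_ringHom (η.eta (⊥ : Ideal R).ResidueField).injective e
  exact eq_of_pow_eq e n ((hz (genPt R)).trans hc)

lemma image_generic
    (hη : η.InV R ∨ ∀ (k : Type u) [Field k], ringChar k = ringChar R →
      Function.Bijective (η.eta k) → PerfectField k) :
    (fun x : η.N R => x ⟨⊥, Ideal.isPrime_bot⟩) '' (η.M R : Set (η.N R)) =
      {y | ((η.eta (⊥ : Ideal R).ResidueField).comp (algebraMap R (⊥ : Ideal R).ResidueField)).IsIntegralElem y} := by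
  ext y
  constructor
  · rintro ⟨x, hx, rfl⟩
    exact isIntegralElem_component hx (genPt R)
  · intro hy
    obtain ⟨x, hx, h⟩ := exists_of_isIntegralElem hη y hy
    exact ⟨x, hx, h⟩

end ValuationRing

end EtaLib
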